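import Groth.Agent.ModGenLib.NoethObj
import Groth.Agent.ARLib.Cat

/-! AR-adic systems of constructible sheaves of modules. -/

set_option autoImplicit false
set_option linter.unusedSectionVars false
set_option linter.style.haveILetI false
set_option backward.isDefEq.respectTransparency false
set_option backward.isDefEq.respectTransparency.types false
set_option synthInstance.maxHeartbeats 400000
set_option maxHeartbeats 1000000

universe u

open CategoryTheory CategoryTheory.Limits AlgebraicGeometry Opposite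

namespace Groth.Agent.ARConsLib

open Groth.Agent.EtShLib ARLib

variable {Λ : Type (u + 1)} [CommRing Λ] [IsNoetherianRing Λ] {I : Ideal Λ}
  {X : Scheme.{u}} [IsNoetherian X]

/-- The predicate of being adic up to translation with constructible terms. -/
def IsARAC (I : Ideal Λ) (K : ARSys.PS (EtModW.Mod Λ X)) : Prop :=
  ARSys.TermKilled I K ∧ ∃ (Y : ARSys.PS (EtModW.Mod Λ X)) (v : Y ⟶ K), ARSys.IsAdic I Y ∧
    (∀ n : ℕ, EtModW.IsConstructible Λ (Y.obj (op n))) ∧ ARSys.IsARIso v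

theorem noeth_of_cons {F : EtModW.Mod Λ X} (h : EtModW.IsConstructible Λ F) : IsNoetherianObject F :=
  ModGenLib.isNoetherianObject_of_isCons ((isConstructibleMod_iff F).1 h)

theorem arIso_id {C : Type*} [Category C] [Abelian C] (F : ARSys.PS C) : ARSys.IsARIso (𝟙 F) :=
  (arIso_iff _).2 ⟨0, fun n m h _ a ha => by
    rw [NatTrans.id_app, ap_id] at ha
    rw [ha, map_zero], fun n m h _ b => ⟨res F h b, ap_id _⟩⟩

theorem arAdicNoeth_of_adic {F : ARSys.PS (EtModW.Mod Λ X)} (hF : ARSys.IsAdic I F)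
    (hFc : ∀ n : ℕ, EtModW.IsConstructible Λ (F.obj (op n))) : ARSys.IsARAdicNoeth I F :=
  ⟨⟨hF.1, F, 𝟙 F, hF, arIso_id F⟩, fun n => noeth_of_cons (hFc n)⟩

theorem cons_of_arb {Y K : ARSys.PS (EtModW.Mod Λ X)} (hY : ARSys.IsAdic I Y) (v : Y ⟶ K)
    {r : ℕ} (hv : ARB v r) (hK : ∀ n, IsCons (A := ModuleCat.{u + 1} Λ) FinMP (K.obj (op n))) (n : ℕ) :
    EtModW.IsConstructible Λ (Y.obj (op n)) := by
  refine (isConstructibleMod_iff _).2 ?_
  let e := Abelian.factorThruImage (v.app (op (n + r)))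
  obtain ⟨ψ, hψ⟩ := exists_factor e (ARSys.tr Y (Nat.le_add_right n r)) fun a ha => by
    refine hv.ker n (n + r) _ le_rfl a ?_
    rw [← Abelian.image.fac (v.app (op (n + r))), ap_comp, ha, map_zero]
  haveI : Epi ψ := by
    haveI : Epi (ARSys.tr Y (Nat.le_add_right n r)) := isStrict_of_isAdic hY _ _ _
    exact epi_of_epi_fac hψ
  exact consMod_of_epi ψ (consMod_of_mono (Abelian.image.ι (v.app (op (n + r)))) (hK _))

theorem isARAC_of_arAdicNoeth {K : ARSys.PS (EtModW.Mod Λ X)} (h : ARSys.IsARAdicNoeth I K)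
    (hK : ∀ n, IsCons (A := ModuleCat.{u + 1} Λ) FinMP (K.obj (op n))) : IsARAC I K := by
  obtain ⟨⟨hk, Y, v, hY, hv⟩, -⟩ := h
  obtain ⟨r, hr⟩ := (arIso_iff v).1 hv
  exact ⟨hk, Y, v, hY, cons_of_arb hY v hr hK, hv⟩

theorem isARAC_kernel_cokernel {F G : ARSys.PS (EtModW.Mod Λ X)} (hF : ARSys.IsAdic I F)
    (hG : ARSys.IsAdic I G) (hFc : ∀ n : ℕ, EtModW.IsConstructible Λ (F.obj (op n)))
    (hGc : ∀ n : ℕ, EtModW.IsConstructible Λ (G.obj (op n))) (w : F ⟶ G) :
    IsARAC I (kernel w) ∧ IsARAC I (cokernel w) := by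
  obtain ⟨h₁, h₂⟩ := arAdicNoeth_kernel_cokernel w (arAdicNoeth_of_adic hF hFc) (arAdicNoeth_of_adic hG hGc)
  refine ⟨isARAC_of_arAdicNoeth h₁ fun n => ?_, isARAC_of_arAdicNoeth h₂ fun n => ?_⟩
  · haveI := app_mono (kernel.ι w) n
    exact consMod_of_mono ((kernel.ι w).app (op n)) ((isConstructibleMod_iff _).1 (hFc n))
  · haveI := app_epi (cokernel.π w) n
    exact consMod_of_epi ((cokernel.π w).app (op n)) ((isConstructibleMod_iff _).1 (hGc n))

theorem arIso_chain {F : ARSys.PS (EtModW.Mod Λ X)} (hF : ARSys.IsAdic I F)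
    (hFc : ∀ n : ℕ, EtModW.IsConstructible Λ (F.obj (op n))) (Z : ℕ →o Subobject F)
    (hZ : ∀ k : ℕ, IsARAC I (Subobject.underlying.obj (Z k) : ARSys.PS (EtModW.Mod Λ X))) :
    ∃ k₀ : ℕ, ∀ k : ℕ, k₀ ≤ k →
      ARSys.IsARIso (Subobject.ofLE (Z k) (Z (k + 1)) (Z.monotone (Nat.le_succ k))) := by
  have hex : ∀ k, ∃ (r : ℕ), MLB (Subobject.underlying.obj (Z k) : ARSys.PS (EtModW.Mod Λ X)) r := fun k => by
    obtain ⟨hk, Y, v, hY, -, hv⟩ := hZ k
    exact (mlar_iff _).1 (mlar_of_arAdic ⟨hk, Y, v, hY, hv⟩)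
  choose r hr using hex
  choose J ι hι hJ hb _ using fun k => exists_univ_image (hr k)
  have hsub : ∀ k, ∀ n, Function.Injective (ap ((ι k ≫ (Z k).arrow).app (op n))) := fun k n => by
    haveI := app_mono (Z k).arrow n
    intro a b h
    rw [NatTrans.comp_app, ap_comp, ap_comp] at h
    exact hι k n (inj _ h)
  haveI : ∀ k, Mono (ι k ≫ (Z k).arrow) := fun k => by
    haveI : ∀ i, Mono ((ι k ≫ (Z k).arrow).app i) := fun i => (mono_iff _).2 (hsub k i.unop)
    exact NatTrans.mono_of_mono_app _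
  have hmono : Monotone fun k => Subobject.mk (ι k ≫ (Z k).arrow) := monotone_nat_of_le_succ fun k => by
    let j := Subobject.ofLE (Z k) (Z (k + 1)) (Z.monotone (Nat.le_succ k))
    obtain ⟨g, hg⟩ := exists_lift_mono (ι (k + 1)) (hι (k + 1)) (ι k ≫ j) fun n x => by
      obtain ⟨x', rfl⟩ := (strict_iff _).1 (hJ k) n (n + r (k + 1)) (Nat.le_add_right _ _) x
      rw [NatTrans.comp_app, ap_comp, res_natural, res_natural]
      exact (hb (k + 1)).coker n _ _ le_rfl _
    refine Subobject.mk_le_mk_of_comm g (NatTrans.ext (funext fun ⟨n⟩ => hom_ext fun x => ?_))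
    rw [NatTrans.comp_app, ap_comp, NatTrans.comp_app, ap_comp, hg, NatTrans.comp_app, ap_comp,
      ← ap_comp, ← NatTrans.comp_app, Subobject.ofLE_arrow, NatTrans.comp_app, ap_comp]
  obtain ⟨k₀, hk₀⟩ := strict_chain (J := I) ⟨hF, fun n => noeth_of_cons (hFc n)⟩
    ⟨_, hmono⟩ fun k => by
      refine strict_of_surj (u := (Subobject.underlyingIso (ι k ≫ (Z k).arrow)).inv) (fun n => ?_) (hJ k)
      haveI := app_epi (Subobject.underlyingIso (ι k ≫ (Z k).arrow)).inv n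
      exact surj _
  refine ⟨k₀, fun k hk => ?_⟩
  let j := Subobject.ofLE (Z k) (Z (k + 1)) (Z.monotone (Nat.le_succ k))
  refine (arIso_iff _).2 ⟨r (k + 1), fun n m h _ a ha => ?_, fun n m h hm b => ?_⟩
  · haveI := app_mono j m
    rw [inj (j.app (op m)) (ha.trans (map_zero _).symm), map_zero]
  · obtain ⟨y, hy⟩ := (hb (k + 1)).coker n m h hm b
    have e := (hk₀ (k + 1) (hk.trans (Nat.le_succ k))).trans (hk₀ k hk).symm
    obtain ⟨φ, hφ⟩ : ∃ φ : J (k + 1) ⟶ J k, φ ≫ ι k ≫ (Z k).arrow = ι (k + 1) ≫ (Z (k + 1)).arrow :=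
      ⟨Subobject.ofMkLEMk _ _ e.le, Subobject.ofMkLEMk_comp _⟩
    refine ⟨ap ((φ ≫ ι k).app (op n)) y, ?_⟩
    haveI := app_mono (Z (k + 1)).arrow n
    refine inj ((Z (k + 1)).arrow.app (op n)) ?_
    rw [← hy, ← ap_comp, ← ap_comp, ← ap_comp, ← NatTrans.comp_app, ← NatTrans.comp_app, ← NatTrans.comp_app,
      Category.assoc, Subobject.ofLE_arrow, hφ]

end Groth.Agent.ARConsLib
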