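import Groth.Agent.ARConsLib.Basic
import Groth.Agent.ARFunLib.Bound
import Groth.Agent.EtShLib.StalkSys
import Groth.Agent.EtShLib.SpecLC
import Groth.Agent.EtShLib.Strata

/-! Being adic up to translation is detected on stalks. -/

set_option autoImplicit false
set_option linter.unusedSectionVars false
set_option linter.style.haveILetI false
set_option backward.isDefEq.respectTransparency false
set_option backward.isDefEq.respectTransparency.types false
set_option synthInstance.maxHeartbeats 400000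
set_option maxHeartbeats 1000000

universe u

open CategoryTheory CategoryTheory.Limits AlgebraicGeometry Opposite

namespace Groth.Agent.ARConsLib

open Groth.Agent.EtShLib ARLib

variable {Λ : Type (u + 1)} [CommRing Λ] {X Z : Scheme.{u}}

instance linear_stalk {Ω : Type u} [Field Ω] [IsSepClosed Ω] (ξ : Spec (CommRingCat.of Ω) ⟶ X) :
    (EtModW.stalk Λ ξ).Linear Λ where
  map_smul f a := ModuleCat.hom_ext (LinearMap.ext fun m => stk_map_smul ξ a f m)

theorem eq_zero_of_stalks {F G : EtModW.Mod Λ X} (f : F ⟶ G)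
    (h : ∀ (Ω : Type u) [Field Ω] [IsSepClosed Ω] (ξ : Spec (CommRingCat.of Ω) ⟶ X),
      (EtModW.stalk Λ ξ).map f = 0) : f = 0 := by
  haveI : IsIso (kernel.ι f) := isIso_of_stalks (A := ModuleCat.{u + 1} Λ) _ fun Ω _ _ ξ => by
    let S := EtModW.stalk Λ ξ
    haveI : Epi (S.map (kernel.ι f)) := (ModuleCat.epi_iff_surjective _).2 fun y =>
      (ShortComplex.moduleCat_exact_iff _).1
        ((ShortComplex.exact_of_f_is_kernel (ShortComplex.mk _ _ (kernel.condition f)) (kernelIsKernel f)).map S) y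
        (by show S.map f y = 0; rw [h Ω ξ]; rfl)
    exact isIso_of_mono_of_epi _
  rw [← cancel_epi (kernel.ι f), kernel.condition, comp_zero]

theorem pull_map_smul (g : Z ⟶ X) {F G : EtModW.Mod Λ X} (f : F ⟶ G) (a : Λ) :
    (EtModW.pull Λ g).map (a • f) = a • (EtModW.pull Λ g).map f := by
  haveI := preservesFiniteLimits_pullA (A := ModuleCat.{u + 1} Λ) g
  haveI : (EtModW.pull Λ g).Additive := Functor.additive_of_preserves_binary_products _
  rw [← sub_eq_zero]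
  refine eq_zero_of_stalks _ fun Ω _ _ ζ => ?_
  let e := stalkPull g ζ (ModuleCat.{u + 1} Λ)
  have h1 := e.hom.naturality f
  have h2 := e.hom.naturality (a • f)
  rw [Functor.comp_map] at h1 h2
  rw [Functor.map_sub, sub_eq_zero, (EtModW.stalk Λ ζ).map_smul, ← cancel_epi (e.hom.app F), Linear.comp_smul,
    ← h1, ← h2, ← Linear.smul_comp, ← (EtModW.stalk Λ (ζ ≫ g)).map_smul]

variable [IsNoetherianRing Λ] {I : Ideal Λ} {F : ARSys.PS (EtModW.Mod Λ X)}

theorem hq_mod {C : Type*} [Category C] [Abelian C] [Linear Λ C] (I : Ideal Λ) (k : ℕ) :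
    ARLib.HQ C (I ^ k) := hq_pow (Or.inl (IsNoetherian.noetherian I)) k

theorem bd_of_isARAC (h : IsARAC I F) : ∃ r s, Bd I F r s := by
  obtain ⟨hk, Y, v, hY, -, hv⟩ := h
  exact ((arAdic_iff_bd (hq_mod I)).1 ⟨hk, Y, v, hY, hv⟩).2

theorem isARAC_of_bd [IsNoetherian X] (hc : ∀ n : ℕ, EtModW.IsConstructible Λ (F.obj (op n)))
    (hk : ARSys.TermKilled I F) {r s : ℕ} (h : Bd I F r s) : IsARAC I F := by
  obtain ⟨-, Y, v, hY, hv⟩ := (arAdic_iff_bd (hq_mod I)).2 ⟨hk, r, s, h⟩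
  obtain ⟨k, hk'⟩ := (arIso_iff v).1 hv
  exact ⟨hk, Y, v, hY, cons_of_arb hY v hk' fun n => (isConstructibleMod_iff _).1 (hc n), hv⟩

theorem bd_pull (g : Z ⟶ X) {r s : ℕ} (h : Bd I F r s) : Bd I (F ⋙ EtModW.pull Λ g) r s := by
  haveI := preservesFiniteLimits_pullA (A := ModuleCat.{u + 1} Λ) g
  haveI : (EtModW.pull Λ g).Additive := Functor.additive_of_preserves_binary_products _
  haveI : (EtModW.pull Λ g).Linear Λ := ⟨fun f a => pull_map_smul g f a⟩
  exact Bd.map _ h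

theorem isARAC_pull (g : Z ⟶ X) [IsNoetherian X] [IsNoetherian Z] (hc : ∀ n : ℕ, EtModW.IsConstructible Λ (F.obj (op n)))
    (h : IsARAC I F) : IsARAC I (F ⋙ EtModW.pull Λ g) := by
  haveI := preservesFiniteLimits_pullA (A := ModuleCat.{u + 1} Λ) g
  haveI : (EtModW.pull Λ g).Additive := Functor.additive_of_preserves_binary_products _
  haveI : (EtModW.pull Λ g).Linear Λ := ⟨fun f a => pull_map_smul g f a⟩
  obtain ⟨r, s, hb⟩ := bd_of_isARAC h
  exact isARAC_of_bd (fun n => (isConstructibleMod_iff _).2 ((isConstructibleMod_iff _).1 (hc n)).pull)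
    (termKilled_map _ h.1) (bd_pull g hb)

theorem bd_of_stalks {r s : ℕ}
    (h : ∀ (Ω : Type u) [Field Ω] [IsSepClosed Ω] (ξ : Spec (CommRingCat.of Ω) ⟶ X),
      Bd I (F ⋙ EtModW.stalk Λ ξ) r s) : Bd I F r s := by
  let T : Type (u + 1) := Σ (Ω : Type u) (_ : Field Ω) (_ : PLift (IsSepClosed Ω)), Spec (CommRingCat.of Ω) ⟶ X
  refine Bd.of_functors
    (fun t : T => @EtModW.stalk Λ _ X t.1 t.2.1 t.2.2.1.down t.2.2.2) ?_
    (fun t => @h t.1 t.2.1 t.2.2.1.down t.2.2.2)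
  intro _ _ f hf
  exact eq_zero_of_stalks f fun Ω iF iS ξ => hf ⟨Ω, iF, ⟨iS⟩, ξ⟩

theorem isARAC_of_cover [IsNoetherian X] {ι : Type} [Fintype ι] (U : ι → Scheme.{u}) (g : ∀ i, U i ⟶ X)
    (hlift : ∀ (Ω : Type u) [Field Ω] [IsSepClosed Ω] (ξ : Spec (CommRingCat.of Ω) ⟶ X),
      ∃ (i : ι) (ζ : Spec (CommRingCat.of Ω) ⟶ U i), ζ ≫ g i = ξ)
    (hc : ∀ n : ℕ, EtModW.IsConstructible Λ (F.obj (op n))) (hk : ARSys.TermKilled I F)
    (h : ∀ i, IsARAC I (F ⋙ EtModW.pull Λ (g i))) : IsARAC I F := by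
  choose r s hrs using fun i => bd_of_isARAC (h i)
  refine isARAC_of_bd hc hk (r := Finset.univ.sup r) (s := Finset.univ.sup s) (bd_of_stalks fun Ω _ _ ξ => ?_)
  obtain ⟨i, ζ, rfl⟩ := hlift Ω ξ
  exact (((hrs i).mono (hq_mod I) (Finset.le_sup (Finset.mem_univ i))
    (Finset.le_sup (Finset.mem_univ i))).map (EtModW.stalk Λ ζ)).of_iso
      (Functor.isoWhiskerLeft F (stalkPull (g i) ζ (ModuleCat.{u + 1} Λ)).symm)

/-- Being adic up to translation with finite terms, for systems of modules. -/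
def IsARAF (I : Ideal Λ) (K : ARSys.PS (ModuleCat.{u + 1} Λ)) : Prop :=
  ARSys.TermKilled I K ∧ ∃ (Y : ARSys.PS (ModuleCat.{u + 1} Λ)) (v : Y ⟶ K), ARSys.IsAdic I Y ∧
    (∀ n : ℕ, Module.Finite Λ (Y.obj (op n))) ∧ ARSys.IsARIso v

theorem finite_of_arb {Y K : ARSys.PS (ModuleCat.{u + 1} Λ)} (hY : ARSys.IsAdic I Y) (v : Y ⟶ K)
    {r : ℕ} (hv : ARB v r) (hK : ∀ n, Module.Finite Λ (K.obj (op n))) (n : ℕ) :
    Module.Finite Λ (Y.obj (op n)) := by
  let e := Abelian.factorThruImage (v.app (op (n + r)))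
  obtain ⟨ψ, hψ⟩ := exists_factor e (ARSys.tr Y (Nat.le_add_right n r)) fun a ha => by
    refine hv.ker n (n + r) _ le_rfl a ?_
    rw [← Abelian.image.fac (v.app (op (n + r))), ap_comp, ha, map_zero]
  haveI : Epi ψ := by
    haveI : Epi (ARSys.tr Y (Nat.le_add_right n r)) := isStrict_of_isAdic hY _ _ _
    exact epi_of_epi_fac hψ
  haveI := hK (n + r)
  haveI : Module.Finite Λ (Abelian.image (v.app (op (n + r))) : ModuleCat.{u + 1} Λ) :=
    Module.Finite.of_injective (Abelian.image.ι (v.app (op (n + r)))).hom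
      ((ModuleCat.mono_iff_injective _).1 inferInstance)
  exact Module.Finite.of_surjective ψ.hom ((ModuleCat.epi_iff_surjective _).1 inferInstance)

theorem isARAF_stalk (hc : ∀ n : ℕ, EtModW.IsConstructible Λ (F.obj (op n))) (h : IsARAC I F)
    {Ω : Type u} [Field Ω] [IsSepClosed Ω] (ξ : Spec (CommRingCat.of Ω) ⟶ X) :
    IsARAF I (F ⋙ EtModW.stalk Λ ξ) := by
  obtain ⟨r, s, hb⟩ := bd_of_isARAC h
  obtain ⟨hk, Y, v, hY, hv⟩ := (arAdic_iff_bd (hq_mod I)).2
    ⟨termKilled_map (EtModW.stalk Λ ξ) h.1, r, s, hb.map (EtModW.stalk Λ ξ)⟩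
  obtain ⟨k, hk'⟩ := (arIso_iff v).1 hv
  exact ⟨hk, Y, v, hY, finite_of_arb hY v hk' fun n =>
    finite_stalk_of_cons ((isConstructibleMod_iff _).1 (hc n)) ξ, hv⟩

theorem isARAC_of_stalk [ConnectedSpace X] [IsNoetherian X]
    (hc : ∀ n : ℕ, EtModW.IsConstructible Λ (F.obj (op n)))
    (hl : ∀ n : ℕ, EtModW.IsFTLocConst Λ (F.obj (op n))) (hk : ARSys.TermKilled I F)
    {Ω : Type u} [Field Ω] [IsSepClosed Ω] (ξ : Spec (CommRingCat.of Ω) ⟶ X)
    (h : IsARAF I (F ⋙ EtModW.stalk Λ ξ)) : IsARAC I F := by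
  obtain ⟨hk', Y, v, hY, -, hv⟩ := h
  obtain ⟨-, r, s, hb⟩ := (arAdic_iff_bd (hq_mod I)).1 ⟨hk', Y, v, hY, hv⟩
  refine isARAC_of_bd hc hk (r := r) (s := s) (bd_of_stalks fun Ω' _ _ ξ' => ?_)
  obtain ⟨e⟩ := nonempty_stalk_iso (A := ModuleCat.{u + 1} Λ) F
    (P := fun M : ModuleCat.{u + 1} Λ => Module.Finite Λ M) (fun n => (isFTLC_iff _).1 (hl n.unop)) ξ ξ'
  exact hb.of_iso e

end Groth.Agent.ARConsLib
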