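import Groth.Agent.ARConsLib.Basic

/-! AR-null criterion by the limits of the stalk systems. -/

set_option autoImplicit false
set_option linter.unusedSectionVars false
set_option linter.style.haveILetI false
set_option backward.isDefEq.respectTransparency false
set_option backward.isDefEq.respectTransparency.types false
set_option synthInstance.maxHeartbeats 400000
set_option maxHeartbeats 1000000

universe w v u

open CategoryTheory CategoryTheory.Limits AlgebraicGeometry Opposite

namespace Groth.Agent.ARConsLib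

open Groth.Agent.EtShLib ARLib

theorem isZero_limit_of_arNull {C : Type u} [Category.{v} C] [HasZeroMorphisms C]
    [HasLimitsOfShape ℕᵒᵖ C] {M : ARSys.PS C} (h : ARSys.IsARNull M) : IsZero (limit M) := by
  obtain ⟨r, hr⟩ := h
  rw [IsZero.iff_id_eq_zero]
  refine limit.hom_ext fun ⟨n⟩ => ?_
  rw [zero_comp, Category.id_comp, ← limit.w M (homOfLE (Nat.le_add_right n r)).op]
  exact (congrArg (_ ≫ ·) (hr n)).trans comp_zero

theorem adic_zero {C : Type u} [Category.{v} C] [Abelian C] {A : Type w} [CommRing A] [Linear A C]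
    {J : Ideal A} {Y : ARSys.PS C} (hY : ARSys.IsAdic J Y) (h0 : IsZero (Y.obj (op 0))) (n : ℕ)
    (a : El (Y.obj (op n))) : a = 0 := by
  have hJ : ∀ (Z : C) (φ : Y.obj (op n) ⟶ Z), ARSys.HomKilledBy J φ → φ = 0 := fun Z φ hφ =>
    eq_zero fun b => by
      refine ((adic_iff.1 hY).2 0 n (Nat.zero_le n)).2 b ?_ Z φ (by rwa [zero_add, pow_one])
      exact ((ap_id _).symm.trans (congrArg (fun f => ap f _) (h0.eq_of_src (𝟙 _) 0))).trans (ap_zero _)
  have hk : ∀ (k : ℕ) (Z : C) (φ : Y.obj (op n) ⟶ Z), ARSys.HomKilledBy (J ^ k) φ → φ = 0 := by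
    intro k
    induction k with
    | zero => exact fun Z φ hφ => by simpa using hφ 1 (by simp)
    | succ k ih =>
      refine fun Z φ hφ => hJ Z φ fun a ha => ih Z _ fun b hb => ?_
      rw [smul_smul]
      exact hφ _ (by rw [pow_succ]; exact Ideal.mul_mem_mul hb ha)
  rw [← ap_id a, hk (n + 1) _ (𝟙 _) (hY.1 n)]
  exact ap_zero a

variable {Λ : Type (u + 1)} [CommRing Λ] [IsNoetherianRing Λ] {I : Ideal Λ}
  {X : Scheme.{u}} [IsNoetherian X]

theorem isZero_of_stalks {G : EtModW.Mod Λ X}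
    (h : ∀ (Ω : Type u) [Field Ω] [IsSepClosed Ω] (x : Spec (CommRingCat.of Ω) ⟶ X),
      IsZero ((EtModW.stalk Λ x).obj G)) : IsZero G := by
  haveI : IsIso (0 : G ⟶ G) := isIso_of_stalks (A := ModuleCat.{u + 1} Λ) _ fun Ω _ _ x =>
    ⟨0, (h Ω x).eq_of_src _ _, (h Ω x).eq_of_src _ _⟩
  rw [IsZero.iff_id_eq_zero]
  exact ((isIsoZeroEquiv G G) inferInstance).1

theorem isZero_limit_stalk {F : ARSys.PS (EtModW.Mod Λ X)} (h : ARSys.IsARNull F)
    {Ω : Type u} [Field Ω] [IsSepClosed Ω] (x : Spec (CommRingCat.of Ω) ⟶ X) :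
    IsZero (limit (F ⋙ EtModW.stalk Λ x)) := by
  refine isZero_limit_of_arNull ?_
  obtain ⟨r, hr⟩ := h
  exact ⟨r, fun n => (congrArg (EtModW.stalk Λ x).map (hr n)).trans (Functor.map_zero _ _ _)⟩

theorem arNull_of_limit {F : ARSys.PS (EtModW.Mod Λ X)} (hF : IsARAC I F)
    (h : ∀ (Ω : Type u) [Field Ω] [IsSepClosed Ω] (x : Spec (CommRingCat.of Ω) ⟶ X),
      IsZero (limit (F ⋙ EtModW.stalk Λ x))) : ARSys.IsARNull F := by
  obtain ⟨-, Y, v, hY, -, hv⟩ := hF
  obtain ⟨r, hr⟩ := (arIso_iff v).1 hv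
  have hz : IsZero (Y.obj (op 0)) := isZero_of_stalks fun Ω _ _ x => by
    let S := EtModW.stalk Λ x
    haveI : ∀ n, Epi (S.map (ARSys.tr Y (Nat.le_succ n))) := fun n =>
      haveI : Epi (ARSys.tr Y (Nat.le_succ n)) := isStrict_of_isAdic hY _ _ _
      inferInstance
    choose s hs using fun n => (ModuleCat.epi_iff_surjective (S.map (ARSys.tr Y (Nat.le_succ n)))).1 inferInstance
    haveI : Subsingleton (S.obj (Y.obj (op 0)) : Type _) := subsingleton_of_forall_eq 0 fun m => by
      let e : ∀ n, S.obj (Y.obj (op n)) := fun n => Nat.rec m (fun n en => s n en) n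
      let g : (Functor.const ℕᵒᵖ).obj (ModuleCat.of Λ Λ) ⟶ Y ⋙ S := NatTrans.ofOpSequence
        (fun n => ModuleCat.ofHom (LinearMap.toSpanSingleton Λ _ (e n))) fun n => by
          refine ModuleCat.hom_ext (LinearMap.ext_ring ?_)
          change (1 : Λ) • e n = S.map (ARSys.tr Y (Nat.le_succ n)) ((1 : Λ) • e (n + 1))
          rw [one_smul, one_smul]
          exact (hs n (e n)).symm
      have hg : ∀ n, g.app (op n) ≫ S.map (v.app (op n)) = 0 := fun n => by
        have := congrArg (· ≫ limit.π (F ⋙ S) (op n))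
          ((h Ω x).eq_of_tgt (limit.lift _ ⟨_, g ≫ Functor.whiskerRight v S⟩) 0)
        simpa using this
      have hk : kernel.ι (v.app (op r)) ≫ ARSys.tr Y (Nat.zero_le r) = 0 := ARLib.eq_zero fun a => by
        rw [ap_comp]
        exact hr.ker 0 r _ (by omega) _ (kernel_ι_ap _ a)
      obtain ⟨k, hk'⟩ := ((ShortComplex.mk _ _ (kernel.condition (v.app (op r)))).map
        S).moduleCat_exact_iff.1 ((ShortComplex.exact_of_f_is_kernel _ (kernelIsKernel _)).map S)
        (g.app (op r) (1 : Λ)) (congrArg (fun t => t (1 : Λ)) (hg r))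
      have h1 := congrArg (fun t => t (1 : Λ)) (g.naturality (homOfLE (Nat.zero_le r)).op)
      have h2 : g.app (op 0) (1 : Λ) = m := one_smul Λ m
      rw [← h2]
      refine h1.trans ?_
      refine (congrArg (S.map (ARSys.tr Y (Nat.zero_le r))) hk'.symm).trans ?_
      exact (congrArg (fun t => t k) ((S.map_comp _ _).symm.trans ((congrArg S.map hk).trans (S.map_zero _ _))))
    exact ModuleCat.isZero_of_subsingleton _
  refine (arNull_iff F).2 ⟨r, fun n m hnm hm b => ?_⟩
  obtain ⟨a, ha⟩ := hr.coker n m hnm hm b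
  rw [← ha, adic_zero hY hz n a, map_zero]

end Groth.Agent.ARConsLib
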